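import Groth.Agent.CmpCritLib.Main

/-!
# The dévissage for the comparison criterion
-/

set_option autoImplicit false
set_option linter.style.haveILetI false
set_option linter.unusedSectionVars false
set_option backward.isDefEq.respectTransparency false
set_option backward.isDefEq.respectTransparency.types false
set_option maxHeartbeats 1000000
set_option synthInstance.maxHeartbeats 400000

universe u

open CategoryTheory CategoryTheory.Limits AlgebraicGeometry Opposite CategoryTheory.Abelian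
open Groth.Agent.CompBCLib

attribute [local instance] Groth.Agent.S0101.result

noncomputable section

namespace Groth.Agent.CmpCritLib

variable {X Y : Scheme.{u}} (h : Y ⟶ X) [PreservesFiniteLimits (EtCoh.pull h)]

theorem map_sum_apply {T : Scheme.{u}} {A B : EtCoh.Ab T} {ι : Type*} (s : Finset ι) (a : ι → (A ⟶ B)) (q : ℕ)
    (x : EtCoh.H T A q) : Sheaf.H.map (∑ i ∈ s, a i) q x = ∑ i ∈ s, Sheaf.H.map (a i) q x := by
  haveI := PBCLib.HF_additive T q
  exact map_sum (AddMonoidHom.mk' (fun t : A ⟶ B => ((EtCoh.HF T q).map t).hom x)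
    fun t t' => by rw [Functor.map_add]; rfl) a s

theorem map_comp_apply {T : Scheme.{u}} {A B C : EtCoh.Ab T} (a : A ⟶ B) (b : B ⟶ C) (q : ℕ) (x : EtCoh.H T A q) :
    Sheaf.H.map (a ≫ b) q x = Sheaf.H.map b q (Sheaf.H.map a q x) :=
  congr($((EtCoh.HF T q).map_comp a b) x)

theorem map_id_apply {T : Scheme.{u}} (A : EtCoh.Ab T) (q : ℕ) (x : EtCoh.H T A q) : Sheaf.H.map (𝟙 A) q x = x :=
  congr($((EtCoh.HF T q).map_id A) x)

theorem map_zero_hom {T : Scheme.{u}} (A B : EtCoh.Ab T) (q : ℕ) (x : EtCoh.H T A q) :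
    Sheaf.H.map (0 : A ⟶ B) q x = 0 := by
  haveI := PBCLib.HF_additive T q
  exact congr($((EtCoh.HF T q).map_zero A B) x)

theorem colim_zero {J : Type*} [Category J] [IsFiltered J] [PreservesColimitsOfShape J (forget AddCommGrpCat.{u + 1})]
    {C : Type*} [Category C] {D : J ⥤ C} {c : Cocone D} (hc : IsColimit c) (G : C ⥤ AddCommGrpCat.{u + 1})
    [PreservesColimit D G] (j : J) (a : G.obj (D.obj j)) (ha : G.map (c.ι.app j) a = 0) :
    ∃ (k : J) (f : j ⟶ k), G.map (D.map f) a = 0 := by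
  obtain ⟨k, f, g, hfg⟩ := (Concrete.isColimit_rep_eq_iff_exists (D ⋙ G)
    (isColimitOfPreserves G hc) a (0 : G.obj (D.obj j))).1 (ha.trans (map_zero _).symm)
  exact ⟨k, f, hfg.trans (map_zero _)⟩

theorem map_mono_zero {T : Scheme.{u}} {A B : EtCoh.Ab T} (a : A ⟶ B) [Mono a] :
    Function.Injective (Sheaf.H.map a 0 : EtCoh.H T A 0 → EtCoh.H T B 0) := by
  refine (injective_iff_map_eq_zero _).2 fun x hx => ?_
  obtain ⟨c, rfl⟩ := (Ext.mk₀_bijective _ _).2 x
  have h0 : c ≫ a = 0 := by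
    apply (Ext.mk₀_bijective _ _).1
    rw [Ext.mk₀_zero, ← Ext.mk₀_comp_mk₀]
    exact hx
  rw [(cancel_mono a).1 (h0.trans zero_comp.symm), Ext.mk₀_zero]

theorem injective_zero_of_mono {A B : EtCoh.Ab X} (a : A ⟶ B) [Mono a] (hB : Function.Injective (EtCore.Hpull h B 0)) :
    Function.Injective (EtCore.Hpull h A 0) := fun x y hxy => map_mono_zero a (hB (by
  rw [Hpull_map h a x, Hpull_map h a y, hxy]))

theorem surjective_of_iso {A B : EtCoh.Ab X} (e : A ≅ B) (q : ℕ) (hB : Function.Surjective (EtCore.Hpull h B q)) :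
    Function.Surjective (EtCore.Hpull h A q) := fun y => by
  obtain ⟨x, hx⟩ := hB (Sheaf.H.map ((EtCoh.pull h).map e.hom) q y)
  refine ⟨Sheaf.H.map e.inv q x, ?_⟩
  rw [Hpull_map h e.inv x, hx, ← map_comp_apply, ← Functor.map_comp, e.hom_inv_id, CategoryTheory.Functor.map_id,
    map_id_apply]

section Biproduct

variable {J : Type} [Finite J] (G : J → EtCoh.Ab X) (q : ℕ)

theorem surjective_biproduct (hG : ∀ j, Function.Surjective (EtCore.Hpull h (G j) q)) :
    Function.Surjective (EtCore.Hpull h (⨁ G) q) := by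
  classical
  haveI := Fintype.ofFinite J
  haveI : (EtCoh.pull h).Additive := (EtCoh.pullPushAdj h).left_adjoint_additive
  intro y
  choose x hx using fun j => hG j (Sheaf.H.map ((EtCoh.pull h).map (biproduct.π G j)) q y)
  refine ⟨∑ j, Sheaf.H.map (biproduct.ι G j) q (x j), ?_⟩
  rw [map_sum]
  simp only [Hpull_map h, hx]
  simp only [← map_comp_apply, ← Functor.map_comp]
  rw [← map_sum_apply, ← Functor.map_sum, biproduct.total, CategoryTheory.Functor.map_id, map_id_apply]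

theorem injective_biproduct (hG : ∀ j, Function.Injective (EtCore.Hpull h (G j) q)) :
    Function.Injective (EtCore.Hpull h (⨁ G) q) := by
  classical
  haveI := Fintype.ofFinite J
  refine (injective_iff_map_eq_zero _).2 fun x hx => ?_
  have h0 : ∀ j, Sheaf.H.map (biproduct.π G j) q x = 0 := fun j => hG j (by
    rw [Hpull_map h, hx, map_zero, map_zero])
  rw [← map_id_apply _ q x, ← biproduct.total (f := G), map_sum_apply]
  refine Finset.sum_eq_zero fun j _ => ?_
  rw [map_comp_apply, h0, map_zero]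

end Biproduct

/-- Direct images along finite morphisms. -/
theorem cmp_push {X' : Scheme.{u}} (p : X' ⟶ X) [IsFinite p] (A : EtCoh.Ab X') (q : ℕ) :
    (Function.Injective (EtCore.Hpull (pullback.fst p h) A q) →
        Function.Injective (EtCore.Hpull h ((EtCoh.push p).obj A) q)) ∧
      (Function.Surjective (EtCore.Hpull (pullback.fst p h) A q) →
        Function.Surjective (EtCore.Hpull h ((EtCoh.push p).obj A) q)) := by
  let hb := pullback.fst p h
  let pY := pullback.snd p h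
  haveI : IsFinite pY := MorphismProperty.pullback_snd _ _ inferInstance
  have hp := (AcycCompLib.bijective_HofPush p A q q fun r hr _ => Groth.Agent.S3054.result p _ r hr).1 le_rfl
  have hpY := (AcycCompLib.bijective_HofPush pY ((EtCoh.pull hb).obj A) q q
    fun r hr _ => Groth.Agent.S3054.result pY _ r hr).1 le_rfl
  haveI := EtPtsLib.isIso_baseChange0 p h pY hb (IsPullback.of_hasPullback p h) A
  have hiso : Function.Bijective ⇑((EtCoh.HF Y q).map (EtCoh.baseChange0 p h pY hb pullback.condition A)).hom :=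
    ConcreteCategory.bijective_of_isIso ((EtCoh.HF Y q).map (EtCoh.baseChange0 p h pY hb pullback.condition A))
  have hsq : ⇑(EtCore.Hpull hb A q) ∘ ⇑(EtLim.HofPush p A q) =
      (⇑(EtLim.HofPush pY ((EtCoh.pull hb).obj A) q) ∘
        ⇑((EtCoh.HF Y q).map (EtCoh.baseChange0 p h pY hb pullback.condition A)).hom) ∘
          ⇑(EtCore.Hpull h ((EtCoh.push p).obj A) q) :=
    funext fun x => Hpull_HofPush h p hb pY pullback.condition A q x
  constructor
  · intro hh
    have h1 : Function.Injective (⇑(EtCore.Hpull hb A q) ∘ ⇑(EtLim.HofPush p A q)) := hh.comp hp.1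
    rw [hsq] at h1
    exact Function.Injective.of_comp h1
  · intro hh
    have h1 : Function.Surjective (⇑(EtCore.Hpull hb A q) ∘ ⇑(EtLim.HofPush p A q)) := hh.comp hp.2
    rw [hsq] at h1
    exact h1.of_comp_left (hpY.comp hiso).1

section Colim

variable [CompactSpace X] [QuasiSeparatedSpace X] [CompactSpace Y] [QuasiSeparatedSpace Y]
  {P : ObjectProperty (EtCoh.Ab X)} {F : EtCoh.Ab X} (H : FLCLib.SysHyp P F) (hF : EtCoh.IsTorsion F) (q : ℕ)

include H hF

theorem injective_of_sys (hP : ∀ E, P E → Function.Injective (EtCore.Hpull h E q)) :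
    Function.Injective (EtCore.Hpull h F q) := by
  haveI := H.isFiltered
  obtain ⟨hc⟩ := H.nonempty_isColimit hF
  let D := FLCLib.sysDiag P F
  let c := FLCLib.sysCocone P F
  haveI := CohColim.preserves_HF X q (FLCLib.SysObj P F)
  haveI := CohColim.preserves_HF Y q (FLCLib.SysObj P F)
  haveI := (EtCoh.pullPushAdj h).isLeftAdjoint
  refine (injective_iff_map_eq_zero _).2 fun x hx => ?_
  obtain ⟨j, x₀, rfl⟩ := Concrete.isColimit_exists_rep (D ⋙ EtCoh.HF X q) (isColimitOfPreserves (EtCoh.HF X q) hc) x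
  have hx' : Sheaf.H.map ((EtCoh.pull h).map (c.ι.app j)) q (EtCore.Hpull h (D.obj j) q x₀) = 0 :=
    (Hpull_map h (c.ι.app j) x₀).symm.trans hx
  obtain ⟨k, f, hfg⟩ := colim_zero hc (EtCoh.pull h ⋙ EtCoh.HF Y q) j (EtCore.Hpull h (D.obj j) q x₀) hx'
  have hfg' : Sheaf.H.map ((EtCoh.pull h).map (D.map f)) q (EtCore.Hpull h (D.obj j) q x₀) = 0 := hfg
  have h0 : Sheaf.H.map (D.map f) q x₀ = 0 :=
    hP (D.obj k) k.hP ((Hpull_map h (D.map f) x₀).trans (hfg'.trans (map_zero _).symm))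
  show Sheaf.H.map (c.ι.app j) q x₀ = 0
  rw [← c.w f, map_comp_apply, h0, map_zero]

theorem surjective_of_sys (hP : ∀ E, P E → Function.Surjective (EtCore.Hpull h E q)) :
    Function.Surjective (EtCore.Hpull h F q) := by
  haveI := H.isFiltered
  obtain ⟨hc⟩ := H.nonempty_isColimit hF
  let D := FLCLib.sysDiag P F
  let c := FLCLib.sysCocone P F
  haveI := CohColim.preserves_HF Y q (FLCLib.SysObj P F)
  haveI := (EtCoh.pullPushAdj h).isLeftAdjoint
  intro y
  obtain ⟨j, y₀, rfl⟩ := Concrete.isColimit_exists_rep (D ⋙ EtCoh.pull h ⋙ EtCoh.HF Y q)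
    (isColimitOfPreserves (EtCoh.pull h ⋙ EtCoh.HF Y q) hc) y
  obtain ⟨x₀, rfl⟩ := hP (D.obj j) j.hP y₀
  exact ⟨Sheaf.H.map (c.ι.app j) q x₀, Hpull_map h (c.ι.app j) x₀⟩

end Colim

section Main

variable [CompactSpace X] [QuasiSeparatedSpace X] {ℓ : ℕ}

/-- Sheaves of `ℓ`-power torsion. -/
def LPow (ℓ : ℕ) (F : EtCoh.Ab X) : Prop := ∀ (U : X.Etale) (s : EtCoh.sect F U), ∃ k : ℕ, ℓ ^ k • s = 0

theorem isTorsion_of_lPow (hℓ : ℓ.Prime) {F : EtCoh.Ab X} (hF : LPow ℓ F) : EtCoh.IsTorsion F := fun U s x => by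
  obtain ⟨k, hk⟩ := hF U (F.obj.map (𝟙 U : U ⟶ U).op s)
  exact ⟨U, 𝟙 U, ⟨x, rfl⟩, isOfFinAddOrder_iff_nsmul_eq_zero.2 ⟨ℓ ^ k, pow_pos hℓ.pos k, hk⟩⟩

theorem sysHyp_killed (N : ℕ) {F : EtCoh.Ab X} (hF : EtCoh.KilledBy N F) :
    FLCLib.SysHyp (fun E => EtPBC.IsConstructible E ∧ EtCoh.KilledBy N E) F := by
  refine ⟨fun E hE => hE.1, fun {E E'} e hE => ⟨FLCLib.isConstructible_of_iso e hE.1, BCVertLib.killedBy_of_epi e.hom hE.2⟩,
    fun E hE g => ⟨cokernel (N • 𝟙 E), ⟨(FLCLib.isConstructible_kernel_cokernel (N • 𝟙 E) hE hE).2, ?_⟩,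
      cokernel.π _, cokernel.desc _ g ?_, cokernel.π_desc _ _ _⟩⟩
  · rw [FLCLib.killedBy_iff, ← cancel_epi (cokernel.π (N • 𝟙 E)), comp_zero, Preadditive.comp_nsmul, Category.comp_id]
    have := cokernel.condition (N • 𝟙 E)
    rwa [Preadditive.nsmul_comp, Category.id_comp] at this
  · rw [Preadditive.nsmul_comp, Category.id_comp]
    exact nsmul_hom_eq_zero' hF g

theorem sysHyp_lPow (hℓ : ℓ.Prime) {F : EtCoh.Ab X} (hF : LPow ℓ F) :
    FLCLib.SysHyp (fun E => EtPBC.IsConstructible E ∧ ∃ ν, EtCoh.KilledBy (ℓ ^ ν) E) F := by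
  refine ⟨fun E hE => hE.1, fun {E E'} e hE => ⟨FLCLib.isConstructible_of_iso e hE.1,
    hE.2.imp fun ν hν => BCVertLib.killedBy_of_epi e.hom hν⟩, fun E hE g => ?_⟩
  obtain ⟨n, hn, hEn⟩ := FLCLib.exists_killedBy hE
  obtain ⟨a, m, hm, rfl⟩ := Nat.exists_eq_pow_mul_and_not_dvd hn.ne' ℓ hℓ.ne_one
  have hg : (ℓ ^ a • 𝟙 E) ≫ g = 0 := by
    refine Sheaf.hom_ext (NatTrans.ext (funext fun U => AddCommGrpCat.ext fun s => ?_))
    let t : EtCoh.sect F U.unop := ((ℓ ^ a • 𝟙 E) ≫ g).hom.app U s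
    obtain ⟨k, hk⟩ := hF U.unop t
    have h1 : m • t = 0 := by
      have h2 : m • ((ℓ ^ a • 𝟙 E) ≫ g) = 0 := by
        rw [← Preadditive.nsmul_comp, ← mul_nsmul, (FLCLib.killedBy_iff _ _).1 hEn, zero_comp]
      have h3 := congrArg (fun q : E ⟶ F => q.hom.app U s) h2
      exact h3
    exact eq_zero_of_coprime h1 hk (((Nat.Prime.coprime_iff_not_dvd hℓ).2 hm).symm.pow_right k)
  refine ⟨cokernel (ℓ ^ a • 𝟙 E), ⟨(FLCLib.isConstructible_kernel_cokernel (ℓ ^ a • 𝟙 E) hE hE).2, a, ?_⟩,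
    cokernel.π _, cokernel.desc _ g hg, cokernel.π_desc _ _ _⟩
  rw [FLCLib.killedBy_iff, ← cancel_epi (cokernel.π (ℓ ^ a • 𝟙 E)), comp_zero, Preadditive.comp_nsmul, Category.comp_id]
  have := cokernel.condition (ℓ ^ a • 𝟙 E)
  rwa [Preadditive.nsmul_comp, Category.id_comp] at this

variable [CompactSpace Y] [QuasiSeparatedSpace Y] (hℓ : ℓ.Prime) {n : ℕ}
  (hb : ∀ (X' : Scheme.{u}) (p : X' ⟶ X) [IsFinite p] (ν : ℕ),
    Function.Injective (EtCore.Hpull (pullback.fst p h) (EtCoh.const X' (ZMod (ℓ ^ ν))) 0) ∧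
      ∀ i ≤ n, Function.Surjective (EtCore.Hpull (pullback.fst p h) (EtCoh.const X' (ZMod (ℓ ^ ν))) i))

include hℓ hb

theorem basic_facts {G : EtCoh.Ab X} (hG : Basic ℓ G) :
    Function.Injective (EtCore.Hpull h G 0) ∧ ∀ i ≤ n, Function.Surjective (EtCore.Hpull h G i) := by
  obtain ⟨J, _, Z, f, hf, e, ⟨ε⟩⟩ := hG
  haveI := hf
  refine ⟨injective_zero_of_mono h ε.hom (injective_biproduct h _ 0 fun j => (cmp_push h (f j) _ 0).1 (hb _ (f j) _).1),
    fun i hi => surjective_of_iso h ε i (surjective_biproduct h _ i fun j => (cmp_push h (f j) _ i).2 ((hb _ (f j) _).2 i hi))⟩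

theorem cmp_killed (i : ℕ) :
    (i ≤ n → ∀ (ν : ℕ) (F : EtCoh.Ab X), EtCoh.KilledBy (ℓ ^ ν) F → Function.Bijective (EtCore.Hpull h F i)) ∧
      (i ≤ n + 1 → ∀ (ν : ℕ) (F : EtCoh.Ab X), EtCoh.KilledBy (ℓ ^ ν) F → Function.Injective (EtCore.Hpull h F i)) := by
  have hpos : ∀ ν : ℕ, 0 < ℓ ^ ν := fun ν => pow_pos hℓ.pos ν
  have htors : ∀ {ν : ℕ} {F : EtCoh.Ab X}, EtCoh.KilledBy (ℓ ^ ν) F → EtCoh.IsTorsion F := fun hF =>
    PBCLib.isTorsion_of_killedBy' (hpos _) hF
  induction i with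
  | zero =>
    have hinj : ∀ (ν : ℕ) (F : EtCoh.Ab X), EtCoh.KilledBy (ℓ ^ ν) F → Function.Injective (EtCore.Hpull h F 0) :=
      fun ν F hF => injective_of_sys h (sysHyp_killed _ hF) (htors hF) 0 fun E hE => by
        obtain ⟨G, ι, hι, hG⟩ := exists_mono_basic hℓ hE.1 hE.2
        haveI := hι
        exact injective_zero_of_mono h ι (basic_facts h hℓ hb hG).1
    refine ⟨fun hn ν F hF => ⟨hinj ν F hF, surjective_of_sys h (sysHyp_killed _ hF) (htors hF) 0 fun E hE => ?_⟩,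
      fun _ => hinj⟩
    obtain ⟨G, ι, hι, hG⟩ := exists_mono_basic hℓ hE.1 hE.2
    haveI := hι
    obtain ⟨μ, hμ⟩ := killedBy_basic hG
    let S := ShortComplex.mk ι (cokernel.π ι) (cokernel.condition ι)
    have hS : S.ShortExact := { exact := ShortComplex.exact_cokernel ι }
    have hC : Function.Injective (EtCore.Hpull h S.X₃ 0) :=
      hinj μ _ (BCVertLib.killedBy_of_epi (cokernel.π ι) hμ)
    intro y
    obtain ⟨g, hg⟩ := (basic_facts h hℓ hb hG).2 0 hn (Sheaf.H.map ((EtCoh.pull h).map ι) 0 y)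
    have hge : Sheaf.H.map (cokernel.π ι) 0 g = 0 := hC (by
      rw [Hpull_map h (cokernel.π ι) g, hg, ← map_comp_apply, ← Functor.map_comp, cokernel.condition,
        Functor.map_zero, map_zero_hom, map_zero])
    obtain ⟨x, rfl⟩ := Ext.covariant_sequence_exact₂ _ hS g hge
    refine ⟨x, map_mono_zero ((EtCoh.pull h).map ι) ?_⟩
    rw [← Hpull_map h ι x]
    exact hg
  | succ i ih =>
    obtain ⟨ihb, ihi⟩ := ih
    have hinj : i + 1 ≤ n + 1 → ∀ (ν : ℕ) (F : EtCoh.Ab X), EtCoh.KilledBy (ℓ ^ ν) F →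
        Function.Injective (EtCore.Hpull h F (i + 1)) := fun hi ν F hF => by
      obtain ⟨T, a, ha, hT, hvan⟩ := exists_acyclic (hpos ν) hF
      haveI := ha
      let S := ShortComplex.mk a (cokernel.π a) (cokernel.condition a)
      have hS : S.ShortExact := { exact := ShortComplex.exact_cokernel a }
      have hC : EtCoh.KilledBy (ℓ ^ ν) S.X₃ := BCVertLib.killedBy_of_epi (cokernel.π a) hT
      exact injective_succ h (n := i) hS le_rfl
        ⟨fun _ => ihb (by omega) ν _ hT, fun _ => (ihb (by omega) ν _ hT).1⟩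
        ⟨fun _ => ihb (by omega) ν _ hC, fun _ => (ihb (by omega) ν _ hC).1⟩
        ⟨fun hle => absurd hle (by omega), fun _ x y _ => (hvan i).elim _ _⟩
    refine ⟨fun hi ν F hF => ⟨hinj (by omega) ν F hF, surjective_of_sys h (sysHyp_killed _ hF) (htors hF) (i + 1)
      fun E hE => ?_⟩, hinj⟩
    obtain ⟨G, ι, hι, hG⟩ := exists_mono_basic hℓ hE.1 hE.2
    haveI := hι
    obtain ⟨μ, hμ⟩ := killedBy_basic hG
    let S := ShortComplex.mk ι (cokernel.π ι) (cokernel.condition ι)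
    have hS : S.ShortExact := { exact := ShortComplex.exact_cokernel ι }
    have hC : EtCoh.KilledBy (ℓ ^ μ) S.X₃ := BCVertLib.killedBy_of_epi (cokernel.π ι) hμ
    have hG' : Function.Bijective (EtCore.Hpull h G (i + 1)) :=
      ⟨hinj (by omega) μ G hμ, (basic_facts h hℓ hb hG).2 (i + 1) hi⟩
    exact surjective_succ h (n := n) hS hi ⟨fun _ => ihb (by omega) μ _ hC, fun _ => (ihb (by omega) μ _ hC).1⟩
      ⟨fun _ => hG', fun _ => hG'.1⟩ (hinj (by omega) μ _ hC)

/-- The comparison for sheaves of `ℓ`-power torsion. -/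
theorem cmp_lPow {F : EtCoh.Ab X} (hF : LPow ℓ F) :
    (∀ i ≤ n, Function.Bijective (EtCore.Hpull h F i)) ∧ Function.Injective (EtCore.Hpull h F (n + 1)) := by
  have hs := sysHyp_lPow hℓ hF
  have ht := isTorsion_of_lPow hℓ hF
  refine ⟨fun i hi => ⟨injective_of_sys h hs ht i fun E hE => ?_, surjective_of_sys h hs ht i fun E hE => ?_⟩,
    injective_of_sys h hs ht (n + 1) fun E hE => ?_⟩
  · obtain ⟨ν, hν⟩ := hE.2
    exact (cmp_killed h hℓ hb i).2 (by omega) ν E hν
  · obtain ⟨ν, hν⟩ := hE.2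
    exact ((cmp_killed h hℓ hb i).1 hi ν E hν).2
  · obtain ⟨ν, hν⟩ := hE.2
    exact (cmp_killed h hℓ hb (n + 1)).2 le_rfl ν E hν

end Main

end Groth.Agent.CmpCritLib
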