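import Groth.Agent.EmbedFinLib.Qcqs
import Groth.Agent.CompBCLib.Killed
import Groth.Agent.FLCLib.Colim
import Groth.Agent.CohColim.EtQC
import Groth.Agent.S3054
import Groth.Agent.EtPtsLib.IntegralBCIso
import Groth.Agent.PBCLib.Fibration

/-!
# The comparison criterion through finite morphisms and constant coefficients
-/

set_option autoImplicit false
set_option linter.style.haveILetI false
set_option linter.unusedSectionVars false
set_option backward.isDefEq.respectTransparency false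
set_option backward.isDefEq.respectTransparency.types false
set_option maxHeartbeats 1000000
set_option synthInstance.maxHeartbeats 400000

universe u

open CategoryTheory CategoryTheory.Limits AlgebraicGeometry Opposite CategoryTheory.Abelian
open scoped DirectSum

attribute [local instance] Groth.Agent.S0101.result

noncomputable section

namespace Groth.Agent.CmpCritLib

theorem eq_zero_of_coprime {A : Type*} [AddCommGroup A] {x : A} {a b : ℕ} (ha : a • x = 0) (hb : b • x = 0)
    (h : Nat.Coprime a b) : x = 0 :=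
  AddMonoid.addOrderOf_eq_one_iff.1 (Nat.dvd_one.1 (h ▸ Nat.dvd_gcd
    (addOrderOf_dvd_iff_nsmul_eq_zero.2 ha) (addOrderOf_dvd_iff_nsmul_eq_zero.2 hb) : addOrderOf x ∣ 1))

variable {X : Scheme.{u}}

theorem killed_mono {n N : ℕ} (h : n ∣ N) {F : EtCoh.Ab X} (hF : EtCoh.KilledBy n F) : EtCoh.KilledBy N F := by
  obtain ⟨m, rfl⟩ := h
  exact FLCLib.killedBy_mul_right m hF

theorem nsmul_hom_eq_zero {n : ℕ} {F G : EtCoh.Ab X} (hF : EtCoh.KilledBy n F) (a : F ⟶ G) : n • a = 0 := by
  rw [← Category.id_comp a, ← Preadditive.nsmul_comp, (FLCLib.killedBy_iff n F).1 hF, zero_comp]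

theorem nsmul_hom_eq_zero' {n : ℕ} {F G : EtCoh.Ab X} (hG : EtCoh.KilledBy n G) (a : F ⟶ G) : n • a = 0 := by
  rw [← Category.comp_id a, ← Preadditive.comp_nsmul, (FLCLib.killedBy_iff n G).1 hG, comp_zero]

/-- Embedding into a sheaf killed by the same integer and without higher cohomology. -/
theorem exists_acyclic {N : ℕ} (hN : 0 < N) {F : EtCoh.Ab X} (hF : EtCoh.KilledBy N F) :
    ∃ (T : EtCoh.Ab X) (u : F ⟶ T), Mono u ∧ EtCoh.KilledBy N T ∧ ∀ q, Subsingleton (EtCoh.H X T (q + 1)) := by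
  let I := Injective.under F
  let m : I ⟶ I := N • 𝟙 I
  have hFm : Injective.ι F ≫ m = 0 := by
    rw [Preadditive.comp_nsmul, Category.comp_id]
    exact nsmul_hom_eq_zero hF _
  haveI : Epi m := (EtPtsLib.epi_iff_ab m).2 fun Ω _ _ ξ b => by
    obtain ⟨U, l, s, rfl⟩ := (Scheme.pointSmallEtale ξ).toPresheafFiber_jointly_surjective b
    obtain ⟨t, ht⟩ := FLCLib.exists_nsmul_eq_sect hN U s
    refine ⟨EtPtsLib.germ ξ I l t, ?_⟩
    rw [FLCLib.germ_app]
    exact congrArg (EtPtsLib.germ ξ I l) ht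
  have hS : (ShortComplex.mk (kernel.ι m) m (kernel.condition m)).ShortExact :=
    ⟨ShortComplex.exact_of_f_is_kernel _ (kernelIsKernel m)⟩
  refine ⟨kernel m, kernel.lift m (Injective.ι F) hFm, mono_of_mono_fac (kernel.lift_ι m (Injective.ι F) hFm), ?_,
    fun q => ⟨fun x y => ?_⟩⟩
  · rw [FLCLib.killedBy_iff, ← cancel_mono (kernel.ι m), zero_comp, Preadditive.nsmul_comp, Category.id_comp,
      ← Category.comp_id (kernel.ι m), ← Preadditive.comp_nsmul]
    exact kernel.condition m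
  have hvan : ∀ x : EtCoh.H X (kernel m) (q + 1), x = 0 := by
    intro x
    obtain ⟨y, rfl⟩ := Ext.covariant_sequence_exact₁ _ hS x (Ext.eq_zero_of_injective _) (n₀ := q) rfl
    rcases q with _ | q₁
    · obtain ⟨g, rfl⟩ := (Ext.mk₀_bijective _ _).2 y
      haveI := FLCLib.mono_nsmul_sheafify (X := X) (n := N)
        ((Functor.const X.Etaleᵒᵖ).obj (AddCommGrpCat.of (ULift.{u + 1} ℤ))) fun V a b h => by
          have := congrArg ULift.down h
          exact ULift.ext _ _ (mul_left_cancel₀ (Nat.cast_ne_zero.2 hN.ne' : (N : ℤ) ≠ 0)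
            (by simpa [nsmul_eq_mul] using this))
      let C₀ := (constantSheaf X.smallEtaleTopology AddCommGrpCat.{u + 1}).obj (AddCommGrpCat.of (ULift.{u + 1} ℤ))
      haveI : Mono (N • 𝟙 C₀) := ‹_›
      let g' := Injective.factorThru g (N • 𝟙 C₀)
      have hg : g' ≫ m = g := by
        rw [Preadditive.comp_nsmul, Category.comp_id, ← Category.id_comp g', ← Preadditive.nsmul_comp]
        exact Injective.comp_factorThru g _
      rw [← hg, ← Ext.mk₀_comp_mk₀, Ext.comp_assoc_of_second_deg_zero, hS.comp_extClass, Ext.comp_zero]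
    · rw [Ext.eq_zero_of_injective y, Ext.zero_comp]
  rw [hvan x, hvan y]

section Embed

variable [CompactSpace X] [QuasiSeparatedSpace X]

/-- The sheaves used for comparison: finite products of direct images of `ℤ/ℓ^e` along finite morphisms. -/
def Basic (ℓ : ℕ) (G : EtCoh.Ab X) : Prop :=
  ∃ (J : Type) (_ : Finite J) (Z : J → Scheme.{u}) (f : ∀ j, Z j ⟶ X) (_ : ∀ j, IsFinite (f j)) (e : J → ℕ),
    Nonempty (G ≅ ⨁ fun j => (EtCoh.push (f j)).obj (EtCoh.const (Z j) (ZMod (ℓ ^ e j))))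

/-- Constructible sheaves killed by a power of `ℓ` embed into the basic ones. -/
theorem exists_mono_basic {ℓ : ℕ} (hℓ : ℓ.Prime) {ν : ℕ} {F : EtCoh.Ab X} (hF : EtPBC.IsConstructible F)
    (hFν : EtCoh.KilledBy (ℓ ^ ν) F) : ∃ (G : EtCoh.Ab X) (ι : F ⟶ G), Mono ι ∧ Basic ℓ G := by
  classical
  obtain ⟨m, Y, f, hf, -, M, iM, fM, ι, hι⟩ := EmbedFinLib.exists_mono_finite_qcqs hF
  haveI := hι
  letI := iM
  haveI := fM
  have hdec := fun i => AddCommGroup.equiv_directSum_zmod_of_finite (M i)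
  choose κ hκ p hp e he using hdec
  let J := {j : Σ i, κ i // p j.1 j.2 = ℓ}
  haveI := hκ
  haveI : Finite J := inferInstance
  let cc : ∀ (i : Fin m) (a : κ i), (M i →+ ZMod (p i a ^ e i a)) := fun i a =>
    (DFinsupp.evalAddMonoidHom a).comp (he i).some.toAddMonoidHom
  let ψ : ∀ (i : Fin m) (a : κ i), (EtCoh.push (f i)).obj (EtCoh.const (Y i) (M i)) ⟶
      (EtCoh.push (f i)).obj (EtCoh.const (Y i) (ZMod (p i a ^ e i a))) := fun i a =>
    (EtCoh.push (f i)).map ((constantSheaf (Y i).smallEtaleTopology AddCommGrpCat.{u + 1}).map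
      (AddCommGrpCat.ofHom ((AddEquiv.ulift.symm.toAddMonoidHom).comp ((cc i a).comp AddEquiv.ulift.toAddMonoidHom))))
  have hjoint : ∀ (i : Fin m) {W : EtCoh.Ab X} (k : W ⟶ (EtCoh.push (f i)).obj (EtCoh.const (Y i) (M i))),
      (∀ a, k ≫ ψ i a = 0) → k = 0 := fun i W k hk => by
    haveI := hκ i
    haveI : (EtCoh.push (f i)).Additive := (EtCoh.pullPushAdj (f i)).right_adjoint_additive
    haveI : (constantSheaf (Y i).smallEtaleTopology AddCommGrpCat.{u + 1}).Additive :=
      (constantSheafAdj (Y i).smallEtaleTopology AddCommGrpCat.{u + 1} (MorphismProperty.Over.mkIdTerminal _ (Y i))).left_adjoint_additive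
    let σ : ∀ a : κ i, ZMod (p i a ^ e i a) →+ M i := fun a =>
      (he i).some.symm.toAddMonoidHom.comp (DirectSum.of (fun a => ZMod (p i a ^ e i a)) a)
    have hsum : 𝟙 (AddCommGrpCat.of (ULift.{u + 1} (M i))) =
        ∑ a : κ i, AddCommGrpCat.ofHom ((AddEquiv.ulift.symm.toAddMonoidHom).comp ((cc i a).comp AddEquiv.ulift.toAddMonoidHom)) ≫
          AddCommGrpCat.ofHom ((AddEquiv.ulift.symm.toAddMonoidHom).comp ((σ a).comp AddEquiv.ulift.toAddMonoidHom)) := by
      refine AddCommGrpCat.hom_ext (AddMonoidHom.ext fun ⟨x⟩ => ?_)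
      refine Eq.trans ?_ (map_sum (AddMonoidHom.mk'
        (fun t : AddCommGrpCat.of (ULift.{u + 1} (M i)) ⟶ AddCommGrpCat.of (ULift.{u + 1} (M i)) => t.hom ⟨x⟩)
        fun _ _ => rfl) _ Finset.univ).symm
      apply AddEquiv.ulift.injective
      rw [map_sum]
      simp only [cc, σ, AddCommGrpCat.hom_comp, AddCommGrpCat.hom_id, AddMonoidHom.comp_apply, AddCommGrpCat.hom_ofHom,
        AddEquiv.coe_toAddMonoidHom, AddEquiv.apply_symm_apply, AddMonoidHom.id_apply]
      show x = _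
      conv_lhs => rw [← (he i).some.symm_apply_apply x, ← DirectSum.sum_univ_of ((he i).some x)]
      rw [map_sum]
      rfl
    have h1 := congrArg (fun t => k ≫ (EtCoh.push (f i)).map
      ((constantSheaf (Y i).smallEtaleTopology AddCommGrpCat.{u + 1}).map t)) hsum
    simp only [Functor.map_sum, Functor.map_comp, Preadditive.comp_sum] at h1
    rw [CategoryTheory.Functor.map_id, CategoryTheory.Functor.map_id, Category.comp_id] at h1
    rw [h1]
    refine Finset.sum_eq_zero fun a _ => ?_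
    rw [← Category.assoc]
    exact (congrArg (· ≫ _) (hk a)).trans zero_comp
  let G := ⨁ fun j : J => (EtCoh.push (f j.1.1)).obj (EtCoh.const (Y j.1.1) (ZMod (p j.1.1 j.1.2 ^ e j.1.1 j.1.2)))
  let lf : F ⟶ G := biproduct.lift fun j : J => ι ≫ biproduct.π _ j.1.1 ≫ ψ j.1.1 j.1.2
  refine ⟨G, lf, Preadditive.mono_of_cancel_zero _ fun {W} k hk => ?_, J, inferInstance, fun j => Y j.1.1, fun j => f j.1.1,
    fun j => hf j.1.1, fun j => e j.1.1 j.1.2, ⟨biproduct.mapIso fun j => eqToIso (by rw [j.2])⟩⟩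
  refine (cancel_mono ι).1 (Eq.trans ?_ zero_comp.symm)
  refine biproduct.hom_ext _ _ fun i => ?_
  rw [zero_comp, Category.assoc]
  refine hjoint i _ fun a => ?_
  rw [Category.assoc, Category.assoc]
  by_cases hpa : p i a = ℓ
  · have h2 := congrArg (· ≫ biproduct.π _ (⟨⟨i, a⟩, hpa⟩ : J)) hk
    simp only [zero_comp, Category.assoc, lf, biproduct.lift_π] at h2
    exact h2
  · have hz : ι ≫ biproduct.π _ i ≫ ψ i a = 0 := by
      haveI : (EtCoh.push (f i)).Additive := (EtCoh.pullPushAdj (f i)).right_adjoint_additive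
      exact eq_zero_of_coprime (nsmul_hom_eq_zero hFν _)
        (nsmul_hom_eq_zero' (CompBCLib.killedBy_push (f i) (PBCLib.killedBy_const (Y i) _)) _)
        (Nat.Coprime.pow _ _ ((Nat.coprime_primes hℓ (hp i a)).2 (Ne.symm hpa)))
    rw [hz, comp_zero]

omit [CompactSpace X] [QuasiSeparatedSpace X] in
theorem killedBy_basic {ℓ : ℕ} {G : EtCoh.Ab X} (hG : Basic ℓ G) : ∃ μ, EtCoh.KilledBy (ℓ ^ μ) G := by
  classical
  obtain ⟨J, _, Z, f, -, e, ⟨ε⟩⟩ := hG
  haveI := Fintype.ofFinite J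
  refine ⟨∑ j, e j, (FLCLib.killedBy_iff _ _).2 ?_⟩
  have h : ∀ j, (ℓ ^ ∑ j, e j) • 𝟙 ((EtCoh.push (f j)).obj (EtCoh.const (Z j) (ZMod (ℓ ^ e j)))) = 0 := fun j =>
    (FLCLib.killedBy_iff _ _).1 (killed_mono (pow_dvd_pow ℓ (Finset.single_le_sum (fun _ _ => Nat.zero_le _) (Finset.mem_univ j)))
      (CompBCLib.killedBy_push (f j) (PBCLib.killedBy_const (Z j) _)))
  rw [← cancel_mono ε.hom]
  refine biproduct.hom_ext _ _ fun j => ?_
  rw [zero_comp, zero_comp, Preadditive.nsmul_comp, Preadditive.nsmul_comp, Category.id_comp,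
    ← Category.comp_id (ε.hom ≫ biproduct.π _ j), ← Preadditive.comp_nsmul, h, comp_zero]

end Embed

end Groth.Agent.CmpCritLib
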